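import Mathlib.CategoryTheory.Monoidal.Internal.Limits
import Mathlib.CategoryTheory.Monoidal.Cartesian.Grp
import Mathlib.CategoryTheory.Limits.Preserves.Basic
import Mathlib.CategoryTheory.Limits.Creates

/-!
The forgetful functor from group objects preserves every limit whose underlying diagram has a limit.
-/

universe w v u

open CategoryTheory CategoryTheory.Limits MonoidalCategory CartesianMonoidalCategory MonObj

namespace Groth.Agent.H9TorsLim

variable {C : Type u} [Category.{v} C] [CartesianMonoidalCategory C] {J : Type w} [Category J]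

/-- The limit monoid object of a diagram of group objects is a group object. -/
@[implicit_reducible]
noncomputable def limitGrpObj (F : J ⥤ Grp C) (c : Cone ((F ⋙ Grp.forget₂Mon C) ⋙ Mon.forget C)) (hc : IsLimit c) :
    GrpObj (Mon.limit (F ⋙ Grp.forget₂Mon C) c hc).X :=
  let M := Mon.limit (F ⋙ Grp.forget₂Mon C) c hc
  let π : ∀ j, M.X ⟶ (F.obj j).X := fun j => c.π.app j
  haveI : ∀ j, IsMonHom (π j) := fun j =>
    ((Mon.limitCone (F ⋙ Grp.forget₂Mon C) c hc).π.app j).isMonHom_hom
  GrpObj.ofInvertible M.X fun Z f =>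
    let s : Cone ((F ⋙ Grp.forget₂Mon C) ⋙ Mon.forget C) :=
      { pt := Z
        π.app := fun j => ((f ≫ π j)⁻¹ : Z ⟶ (F.obj j).X)
        π.naturality := fun i j φ => by
          have hw : π i ≫ (F.map φ).hom.hom = π j := c.w φ
          haveI : IsMonHom (F.map φ).hom.hom := (F.map φ).hom.isMonHom_hom
          change 𝟙 Z ≫ ((f ≫ π j)⁻¹ : Z ⟶ (F.obj j).X) = ((f ≫ π i)⁻¹ : Z ⟶ (F.obj i).X) ≫ (F.map φ).hom.hom
          rw [Category.id_comp, GrpObj.inv_comp, Category.assoc, hw] }
    let t : Z ⟶ M.X := hc.lift s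
    have hs : ∀ j, t ≫ π j = ((f ≫ π j)⁻¹ : Z ⟶ (F.obj j).X) := fun j => hc.fac s j
    { invOf := t
      invOf_mul_self := hc.hom_ext fun j => by
        change (t * f) ≫ π j = (1 : Z ⟶ M.X) ≫ π j
        rw [MonObj.mul_comp, MonObj.one_comp, hs, inv_mul_cancel]
      mul_invOf_self := hc.hom_ext fun j => by
        change (f * t) ≫ π j = (1 : Z ⟶ M.X) ≫ π j
        rw [MonObj.mul_comp, MonObj.one_comp, hs, mul_inv_cancel] }

theorem preservesLimit_grp_forget (F : J ⥤ Grp C) [HasLimit (F ⋙ Grp.forget C)] :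
    PreservesLimit F (Grp.forget C) := by
  haveI : HasLimit ((F ⋙ Grp.forget₂Mon C) ⋙ Mon.forget C) := ‹HasLimit (F ⋙ Grp.forget C)›
  let c := limit.cone ((F ⋙ Grp.forget₂Mon C) ⋙ Mon.forget C)
  have hc : IsLimit c := limit.isLimit _
  haveI : HasLimit (F ⋙ Grp.forget₂Mon C) := HasLimit.mk ⟨_, Mon.limitConeIsLimit _ c hc⟩
  letI := limitGrpObj F c hc
  let G : Grp C := { X := (Mon.limit (F ⋙ Grp.forget₂Mon C) c hc).X }
  have e : (Grp.forget₂Mon C).obj G ≅ limit (F ⋙ Grp.forget₂Mon C) :=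
    (Mon.limitConeIsLimit _ c hc).conePointUniqueUpToIso (limit.isLimit _)
  haveI : CreatesLimit F (Grp.forget₂Mon C) := createsLimitOfFullyFaithfulOfIso G e
  haveI : PreservesLimit F (Grp.forget₂Mon C) := preservesLimit_of_createsLimit_and_hasLimit _ _
  haveI : PreservesLimit (F ⋙ Grp.forget₂Mon C) (Mon.forget C) := preservesLimit_of_createsLimit_and_hasLimit _ _
  exact inferInstanceAs (PreservesLimit F (Grp.forget₂Mon C ⋙ Mon.forget C))

end Groth.Agent.H9TorsLim
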