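import Mathlib.AlgebraicGeometry.AffineTransitionLimit
import Mathlib.AlgebraicGeometry.Morphisms.Flat
import Mathlib.CategoryTheory.Limits.Constructions.Over.Connected
import Mathlib.CategoryTheory.Limits.ConcreteCategory.Basic
import Mathlib.Algebra.Category.Ring.FilteredColimits
import Mathlib.RingTheory.Flat.EquationalCriterion

/-!
Cofiltered limits of affine, flat, surjective schemes over a base are affine, flat, surjective.
-/

universe u

open CategoryTheory CategoryTheory.Limits AlgebraicGeometry Opposite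

set_option linter.style.haveILetI false

namespace Groth.Agent.H9TorsLim

/-- A filtered colimit of flat algebras is flat. -/
theorem flat_of_isColimit {J : Type u} [SmallCategory J] [IsFiltered J] (F : J ⥤ CommRingCat.{u})
    {c : Cocone F} (hc : IsColimit c) {A : CommRingCat.{u}} (φ : ∀ j, A ⟶ F.obj j) (ψ : A ⟶ c.pt)
    (hφ : ∀ {i j : J} (f : i ⟶ j), φ i ≫ F.map f = φ j) (hψ : ∀ j, φ j ≫ c.ι.app j = ψ)
    (hflat : ∀ j, (φ j).hom.Flat) : ψ.hom.Flat := by
  classical
  letI := ψ.hom.toAlgebra
  change Module.Flat A c.pt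
  refine Module.Flat.of_forall_isTrivialRelation fun {l f x} h => ?_
  choose i y hy using fun s => Concrete.isColimit_exists_rep F hc (x s)
  obtain ⟨j, hj⟩ := IsFiltered.sup_objs_exists (Finset.univ.image i)
  have hij : ∀ s, Nonempty (i s ⟶ j) := fun s => hj (Finset.mem_image_of_mem i (Finset.mem_univ s))
  let y' : Fin l → F.obj j := fun s => F.map (hij s).some (y s)
  have hy' : ∀ s, c.ι.app j (y' s) = x s := fun s => by
    rw [← hy s, ← c.w (hij s).some]; rfl
  have h0 : c.ι.app j (∑ s, φ j (f s) * y' s) = c.ι.app j 0 := by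
    rw [map_sum, map_zero, ← h]
    refine Finset.sum_congr rfl fun s _ => ?_
    rw [map_mul, hy' s, ← CommRingCat.comp_apply, hψ, Algebra.smul_def]
    rfl
  obtain ⟨k, g, g', hg⟩ := (Types.FilteredColimit.isColimit_eq_iff (F ⋙ forget CommRingCat)
    (isColimitOfPreserves (forget CommRingCat) hc)).1 h0
  change F.map g (∑ s, φ j (f s) * y' s) = F.map g' 0 at hg
  rw [map_sum, map_zero] at hg
  letI := (φ k).hom.toAlgebra
  haveI : Module.Flat A (F.obj k) := hflat k
  have hk : ∑ s, f s • (F.map g (y' s)) = 0 := by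
    rw [← hg]
    refine Finset.sum_congr rfl fun s _ => ?_
    rw [map_mul, ← CommRingCat.comp_apply (φ j), hφ, Algebra.smul_def]
    rfl
  obtain ⟨n, a, z, hz, ha⟩ := Module.Flat.iff_forall_isTrivialRelation.1 ‹Module.Flat A (F.obj k)› hk
  refine ⟨n, a, fun t => c.ι.app k (z t), fun s => ?_, ha⟩
  rw [← hy' s, ← c.w g, CommRingCat.comp_apply, show F.map g (y' s) = _ from hz s, map_sum]
  refine Finset.sum_congr rfl fun t _ => ?_
  rw [Algebra.smul_def, Algebra.smul_def, map_mul]
  refine congrArg (· * _) ?_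
  exact congrArg (fun f : A ⟶ c.pt => f (a s t)) (hψ k)

variable {I : Type u} [SmallCategory I] [IsCofiltered I] {X : Scheme.{u}} {D : I ⥤ Over X} {c : Cone D}

attribute [local instance] IsCofiltered.isConnected

theorem isAffineHom_map_left [∀ i, IsAffineHom (D.obj i).hom] {i j : I} (f : i ⟶ j) :
    IsAffineHom ((D ⋙ Over.forget X).map f) := by
  have h : IsAffineHom ((D.map f).left ≫ (D.obj j).hom) := by rw [Over.w]; infer_instance
  exact IsAffineHom.of_comp (D.map f).left (D.obj j).hom

theorem isAffineHom_limit (hc : IsLimit c) (hD : ∀ i, IsAffineHom (D.obj i).hom) : IsAffineHom c.pt.hom := by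
  obtain ⟨i⟩ := IsCofiltered.nonempty (C := I)
  haveI : ∀ {i j : I} (f : i ⟶ j), IsAffineHom ((D ⋙ Over.forget X).map f) := fun f => isAffineHom_map_left f
  haveI : IsAffineHom (c.π.app i).left :=
    isAffineHom_π_app _ _ (isLimitOfPreserves (Over.forget X) hc) i
  have h : IsAffineHom ((c.π.app i).left ≫ (D.obj i).hom) := inferInstance
  rwa [Over.w] at h

theorem surjective_limit (hc : IsLimit c) (hD : ∀ i, IsAffineHom (D.obj i).hom)
    (hs : ∀ i, Surjective (D.obj i).hom) : Surjective c.pt.hom := by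
  refine ⟨fun x => ?_⟩
  let fr := X.fromSpecResidueField x
  let D' := D ⋙ Over.pullback fr
  haveI hA : ∀ i, IsAffineHom (D'.obj i).hom := fun i =>
    MorphismProperty.pullback_snd (P := @IsAffineHom) (D.obj i).hom fr (hD i)
  haveI : ∀ i, IsAffine ((D' ⋙ Over.forget _).obj i) := fun i =>
    haveI : IsAffineHom (pullback.snd (D.obj i).hom fr) := hA i
    (isAffine_of_isAffineHom (pullback.snd (D.obj i).hom fr) : IsAffine (pullback (D.obj i).hom fr))
  haveI : ∀ {i j : I} (f : i ⟶ j), IsAffineHom ((D' ⋙ Over.forget _).map f) := fun f => isAffineHom_map_left f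
  haveI : ∀ i, Nonempty ((D' ⋙ Over.forget _).obj i) := fun i => by
    obtain ⟨y, hy⟩ := (hs i).surj x
    obtain ⟨z, hz⟩ : x ∈ Set.range fr := by rw [Scheme.range_fromSpecResidueField]; rfl
    obtain ⟨w, -, -⟩ := Scheme.Pullback.exists_preimage_pullback (f := (D.obj i).hom) (g := fr) y z (hy.trans hz.symm)
    exact ⟨w⟩
  obtain ⟨w⟩ := Scheme.nonempty_of_isLimit _ _
    (isLimitOfPreserves (Over.forget _) (isLimitOfPreserves (Over.pullback fr) hc))
  change ↥(pullback c.pt.hom fr) at w
  refine ⟨pullback.fst c.pt.hom fr w, ?_⟩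
  have h := congrArg (fun f : _ ⟶ X => f w) (pullback.condition (f := c.pt.hom) (g := fr))
  simp only [Scheme.Hom.comp_apply] at h
  rw [h]
  have : fr (pullback.snd c.pt.hom fr w) ∈ Set.range fr := ⟨_, rfl⟩
  rw [Scheme.range_fromSpecResidueField] at this
  exact this

theorem flat_limit (hc : IsLimit c) (hD : ∀ i, IsAffineHom (D.obj i).hom) (hf : ∀ i, Flat (D.obj i).hom) :
    Flat c.pt.hom := by
  haveI := isAffineHom_limit hc hD
  refine IsZariskiLocalAtTarget.of_openCover X.affineCover fun t => ?_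
  let g := X.affineCover.f t
  change Flat (pullback.snd c.pt.hom g)
  let D' := D ⋙ Over.pullback g
  let E := D' ⋙ Over.forget _
  haveI hA : ∀ i, IsAffineHom (D'.obj i).hom := fun i => MorphismProperty.pullback_snd (P := @IsAffineHom) (D.obj i).hom g (hD i)
  haveI : ∀ i, IsAffine (E.obj i) := fun i =>
    haveI : IsAffineHom (pullback.snd (D.obj i).hom g) := hA i
    (isAffine_of_isAffineHom (pullback.snd (D.obj i).hom g) : IsAffine (pullback (D.obj i).hom g))
  haveI : ∀ {i j : I} (f : i ⟶ j), IsAffineHom (E.map f) := fun f => isAffineHom_map_left f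
  haveI : IsAffine (pullback c.pt.hom g) := isAffine_of_isAffineHom (pullback.snd c.pt.hom g)
  let c' := (Over.pullback g).mapCone c
  obtain ⟨hcol⟩ := nonempty_isColimit_Γ_mapCocone E _
    (isLimitOfPreserves (Over.forget _) (isLimitOfPreserves (Over.pullback g) hc))
  rw [HasRingHomProperty.iff_of_isAffine (P := @Flat)]
  refine flat_of_isColimit _ hcol (fun j => (D'.obj j.unop).hom.appTop) (pullback.snd c.pt.hom g).appTop ?_ ?_ ?_
  · intro i j f
    change (D'.obj i.unop).hom.appTop ≫ (D'.map f.unop).left.appTop = (D'.obj j.unop).hom.appTop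
    rw [← Scheme.Hom.comp_appTop, Over.w]
  · intro j
    change (D'.obj j.unop).hom.appTop ≫ (c'.π.app j.unop).left.appTop = c'.pt.hom.appTop
    rw [← Scheme.Hom.comp_appTop, Over.w]
    rfl
  · intro j
    haveI : Flat (D'.obj j.unop).hom := MorphismProperty.pullback_snd (D.obj j.unop).hom g (hf j.unop)
    haveI : IsAffine (D'.obj j.unop).left := inferInstanceAs (IsAffine (E.obj j.unop))
    exact (HasRingHomProperty.iff_of_isAffine (P := @Flat)).1 ‹Flat (D'.obj j.unop).hom›

end Groth.Agent.H9TorsLim
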