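import Groth.Prelude.Def_NonAbH2
import Groth.Prelude.Def_ChGrp
import Groth.Prelude.Def_Red
import Groth.Agent.SchTorsor.Props
import Groth.Agent.H9TorsLim.Props

/-!
Limits of torsors.
-/

universe u

open CategoryTheory CategoryTheory.Limits MonoidalCategory CartesianMonoidalCategory MonObj AlgebraicGeometry

set_option linter.style.haveILetI false

namespace Groth.Agent.H9TorsLim

variable {X : Scheme.{u}}

theorem existsUnique_lift_act {G T : Over X} [GrpObj G] {a : AlgGrp.Action G T}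
    (h : NonAbH1.IsPseudoTorsorSch a) {Z : Over X} (p q : Z ⟶ T) : ∃! g : Z ⟶ G, lift g q ≫ a.act = p := by
  haveI : IsIso (lift a.act (snd G T)) := h
  let r := lift p q ≫ inv (lift a.act (snd G T))
  have e : r ≫ lift a.act (snd G T) = lift p q := by
    rw [Category.assoc, IsIso.inv_hom_id, Category.comp_id]
  have h1 : r ≫ a.act = p := by simpa using congrArg (fun m => m ≫ fst _ _) e
  have h2 : r ≫ snd G T = q := by simpa using congrArg (fun m => m ≫ snd _ _) e
  have hr : lift (r ≫ fst G T) q = r := by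
    rw [← h2, ← comp_lift, lift_fst_snd, Category.comp_id]
  refine ⟨r ≫ fst G T, ?_, fun g hg => ?_⟩
  · change lift (r ≫ fst G T) q ≫ a.act = p
    rw [hr, h1]
  · have : lift g q = r := by
      rw [← cancel_mono (lift a.act (snd G T)), e, comp_lift, hg, lift_snd]
    rw [← this, lift_fst]

theorem isPseudoTorsor_of_points {G T : Over X} [GrpObj G] (a : AlgGrp.Action G T)
    (hex : ∀ (Z : Over X) (p q : Z ⟶ T), ∃ g : Z ⟶ G, lift g q ≫ a.act = p)
    (huniq : ∀ (Z : Over X) (q : Z ⟶ T) (g g' : Z ⟶ G), lift g q ≫ a.act = lift g' q ≫ a.act → g = g') :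
    NonAbH1.IsPseudoTorsorSch a := by
  obtain ⟨g, hg⟩ := hex _ (fst T T) (snd T T)
  refine ⟨⟨lift g (snd T T), ?_, ?_⟩⟩
  · rw [comp_lift, lift_snd]
    have : lift a.act (snd G T) ≫ g = fst G T := by
      refine huniq _ (snd G T) _ _ ?_
      have h := congrArg (fun m => lift a.act (snd G T) ≫ m) hg
      simp only [comp_lift_assoc, lift_snd, lift_fst] at h
      rw [h, lift_fst_snd, Category.id_comp]
    rw [this, lift_fst_snd]
  · rw [comp_lift, hg, lift_snd, lift_fst_snd]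

theorem surjective_of_isTorsorFor {G T : Over X} [GrpObj G] {a : AlgGrp.Action G T}
    (h : NonAbH1.IsTorsorFor Scheme.fpqcPrecoverage a) : Surjective T.hom := by
  refine ⟨fun x => ?_⟩
  obtain ⟨t, y, hy⟩ : ∃ (t : X.affineCover.I₀) (y : X.affineCover.X t), X.affineCover.f t y = x :=
    ⟨_, X.affineCover.covers x⟩
  obtain ⟨Z, p, hp, -, -, s, hs⟩ := SchTorsor.exists_single h.2 (X.affineCover.f t)
  obtain ⟨z, rfl⟩ := hp.surj y
  refine ⟨s z, ?_⟩
  rw [← hy, ← Scheme.Hom.comp_apply, hs, Scheme.Hom.comp_apply]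

theorem locallyTrivial_fpqc (T : Over X) [IsAffineHom T.hom] [Flat T.hom] [Surjective T.hom] :
    NonAbH1.IsLocallyTrivialFor Scheme.fpqcPrecoverage T := by
  refine ⟨Presieve.singleton T.hom, Scheme.Hom.singleton_mem_propQCPrecoverage ‹Flat T.hom›, ?_⟩
  rintro S' f ⟨⟩
  exact ⟨𝟙 _, Category.id_comp _⟩

variable {I : Type u} [SmallCategory I] [IsCofiltered I] {DT : I ⥤ Over X} {cT : Cone DT}
  {W : I ⥤ Over X} {cW : Cone W}

/-- A limit of pseudo-torsors is a pseudo-torsor. -/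
theorem isPseudoTorsor_limit (hcT : IsLimit cT) (hcW : IsLimit cW) [GrpObj cW.pt] [∀ i, GrpObj (W.obj i)]
    (aT : ∀ i, AlgGrp.Action (W.obj i) (DT.obj i)) (hT : ∀ i, NonAbH1.IsPseudoTorsorSch (aT i))
    (hDT : ∀ {i j : I} (φ : i ⟶ j), (aT i).act ≫ DT.map φ = (W.map φ ⊗ₘ DT.map φ) ≫ (aT j).act)
    (a : AlgGrp.Action cW.pt cT.pt)
    (ha : ∀ i, a.act ≫ cT.π.app i = (cW.π.app i ⊗ₘ cT.π.app i) ≫ (aT i).act) :
    NonAbH1.IsPseudoTorsorSch a := by
  have key : ∀ (Z : Over X) (g : Z ⟶ cW.pt) (q : Z ⟶ cT.pt) (i : I),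
      (lift g q ≫ a.act) ≫ cT.π.app i = lift (g ≫ cW.π.app i) (q ≫ cT.π.app i) ≫ (aT i).act := by
    intro Z g q i
    rw [Category.assoc, ha, lift_map_assoc]
  refine isPseudoTorsor_of_points a (fun Z p q => ?_) (fun Z q g g' h => ?_)
  · choose g hg hu using fun i => existsUnique_lift_act (hT i) (p ≫ cT.π.app i) (q ≫ cT.π.app i)
    let s : Cone W :=
      { pt := Z
        π.app := g
        π.naturality := fun i j φ => by
          change 𝟙 Z ≫ g j = g i ≫ W.map φ
          rw [Category.id_comp]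
          refine (hu j _ ?_).symm
          change lift (g i ≫ W.map φ) (q ≫ cT.π.app j) ≫ (aT j).act = p ≫ cT.π.app j
          rw [← cT.w φ, ← Category.assoc q, ← Category.assoc p, ← lift_map_assoc, ← hDT φ,
            ← Category.assoc, hg i] }
    refine ⟨hcW.lift s, hcT.hom_ext fun i => ?_⟩
    rw [key, hcW.fac, hg i]
  · refine hcW.hom_ext fun i => ?_
    obtain ⟨g₀, -, hu⟩ := existsUnique_lift_act (hT i)
      ((lift g q ≫ a.act) ≫ cT.π.app i) (q ≫ cT.π.app i)
    rw [hu (g ≫ cW.π.app i) (key Z g q i).symm,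
      hu (g' ≫ cW.π.app i) (by change _ = _; rw [h]; exact (key Z g' q i).symm)]

end Groth.Agent.H9TorsLim
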